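import Groth.Agent.L08.Lie3.Ideals
import Groth.Agent.L22.AffineDim

/-!
Charts on the second component `V(J)`: where `b + f` or `bf - ec` is invertible it is an open piece
of affine six-space.
-/

set_option maxHeartbeats 1000000

namespace Groth.L08.Lie3

open MvPolynomial Lie3Mod

variable {A : Type*} [CommRing A]

theorem mem_idJ_of {x : D A} (c₁ c₂ c₃ c₄ : D A)
    (h : x = c₁ * Q1 A + c₂ * Q2 A + c₃ * Q3 A + c₄ * detM A) : x ∈ idJ A := by
  rw [h]
  refine Ideal.add_mem _ (Ideal.add_mem _ (Ideal.add_mem _ ?_ ?_) ?_) ?_ <;>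
    exact Ideal.mul_mem_left _ _ (Ideal.subset_span (by simp))

/-- A chart of `V(J)`: an isomorphism, after inverting `w`, with affine six-space. -/
structure Chart (A : Type*) [CommRing A] where
  ι : B A →ₐ[A] D A
  w : B A
  φ : D A →ₐ[A] Localization.Away w
  φ_ι : ∀ r, φ (ι r) = algebraMap (B A) (Localization.Away w) r
  φ_J : ∀ q ∈ idJ A, φ q = 0
  red : ∀ j, ∃ (n : ℕ) (r : B A), ι w ^ n * X j - ι r ∈ idJ A

namespace Chart

variable (c : Chart A)

theorem exists_red (q : D A) : ∃ (n : ℕ) (r : B A), c.ι c.w ^ n * q - c.ι r ∈ idJ A := by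
  induction q using MvPolynomial.induction_on with
  | C a => exact ⟨0, C a, by simp⟩
  | add p q hp hq =>
    obtain ⟨n, r, hr⟩ := hp
    obtain ⟨m, s, hs⟩ := hq
    refine ⟨n + m, r * c.w ^ m + s * c.w ^ n, ?_⟩
    have := Ideal.add_mem _ (Ideal.mul_mem_left _ (c.ι c.w ^ m) hr)
      (Ideal.mul_mem_left _ (c.ι c.w ^ n) hs)
    convert this using 1
    simp only [map_add, map_mul, map_pow, pow_add]; ring
  | mul_X p j hp =>
    obtain ⟨n, r, hr⟩ := hp
    obtain ⟨m, s, hs⟩ := c.red j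
    refine ⟨n + m, r * s, ?_⟩
    have := Ideal.add_mem _ (Ideal.mul_mem_left _ (c.ι c.w ^ m * X j) hr)
      (Ideal.mul_mem_left _ (c.ι r) hs)
    convert this using 1
    simp only [map_mul, pow_add]; ring

theorem φ_eq {n : ℕ} {q : D A} {r : B A} (h : c.ι c.w ^ n * q - c.ι r ∈ idJ A) :
    algebraMap (B A) (Localization.Away c.w) c.w ^ n * c.φ q = algebraMap (B A) _ r := by
  have := c.φ_J _ h
  rwa [map_sub, map_mul, map_pow, c.φ_ι, c.φ_ι, sub_eq_zero] at this

theorem exists_pow_mul_mem {q : D A} (hq : c.φ q = 0) : ∃ n : ℕ, c.ι c.w ^ n * q ∈ idJ A := by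
  obtain ⟨n, r, hr⟩ := c.exists_red q
  have h := c.φ_eq hr
  rw [hq, mul_zero] at h
  obtain ⟨⟨_, m, rfl⟩, hm⟩ := (IsLocalization.map_eq_zero_iff (Submonoid.powers c.w)
    (Localization.Away c.w) r).1 h.symm
  refine ⟨m + n, ?_⟩
  have := Ideal.mul_mem_left _ (c.ι c.w ^ m) hr
  rw [mul_sub, ← map_pow c.ι c.w m, ← map_mul, hm, map_zero, sub_zero, map_pow, ← mul_assoc,
    ← pow_add] at this
  exact this

theorem prime [IsDomain A] (hreg : ∀ q, c.ι c.w * q ∈ idJ A → q ∈ idJ A) (hw : c.w ≠ 0) :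
    (idJ A).IsPrime := by
  have : IsDomain (Localization.Away c.w) := IsLocalization.isDomain_localization
    (powers_le_nonZeroDivisors_of_noZeroDivisors hw)
  have key : idJ A = RingHom.ker c.φ := by
    refine le_antisymm c.φ_J fun q hq => ?_
    obtain ⟨n, hn⟩ := c.exists_pow_mul_mem hq
    induction n with
    | zero => simpa using hn
    | succ n ih => exact ih (hreg _ (by rwa [pow_succ', mul_assoc] at hn))
  rw [key]
  exact RingHom.ker_isPrime _

/-- the local ring of `D/J` at a prime in the chart is a local ring of affine six-space -/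
theorem isLocalization (P : Ideal (D A ⧸ idJ A)) [P.IsPrime] (m : Ideal (B A)) [m.IsPrime]
    (hm : ∀ r, r ∈ m ↔ Ideal.Quotient.mk (idJ A) (c.ι r) ∈ P) (hw : c.w ∉ m) :
    Nonempty (Localization.AtPrime m ≃+* Localization.AtPrime P) := by
  let g : B A →+* Localization.AtPrime P :=
    (algebraMap (D A ⧸ idJ A) _).comp ((Ideal.Quotient.mk (idJ A)).comp c.ι.toRingHom)
  have hwP : Ideal.Quotient.mk (idJ A) (c.ι c.w) ∉ P := fun h => hw ((hm _).2 h)
  letI := g.toAlgebra
  have hu : ∀ y : m.primeCompl, IsUnit (algebraMap (B A) (Localization.AtPrime P) y) := fun y =>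
    IsLocalization.map_units (Localization.AtPrime P)
      (⟨_, fun h => y.2 ((hm _).2 h)⟩ : P.primeCompl)
  have : IsLocalization m.primeCompl (Localization.AtPrime P) := by
    refine (isLocalization_iff _ _).2 ⟨?_, ?_, ?_⟩
    · exact hu
    · intro z
      obtain ⟨⟨x, ⟨s, hs⟩⟩, hz⟩ := IsLocalization.surj P.primeCompl z
      obtain ⟨x, rfl⟩ := Ideal.Quotient.mk_surjective x
      obtain ⟨s, rfl⟩ := Ideal.Quotient.mk_surjective s
      obtain ⟨n, r, hr⟩ := c.exists_red x
      obtain ⟨k, t, ht⟩ := c.exists_red s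
      have er := (Ideal.Quotient.mk_eq_mk_iff_sub_mem (I := idJ A) _ _).2 hr
      have et := (Ideal.Quotient.mk_eq_mk_iff_sub_mem (I := idJ A) _ _).2 ht
      rw [map_mul, map_pow] at er et
      have ht' : t ∉ m := by
        rw [hm, ← et]
        exact fun h => (Ideal.IsPrime.mem_or_mem ‹_› h).elim
          (fun h => hwP (Ideal.IsPrime.mem_of_pow_mem ‹_› _ h)) hs
      refine ⟨⟨r * c.w ^ k, ⟨t * c.w ^ n, fun h => (Ideal.IsPrime.mem_or_mem ‹_› h).elim ht'
        fun h => hw (Ideal.IsPrime.mem_of_pow_mem ‹_› _ h)⟩⟩, ?_⟩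
      change z * g (t * c.w ^ n) = g (r * c.w ^ k)
      simp only [g, RingHom.comp_apply, map_mul, map_pow, AlgHom.toRingHom_eq_coe,
        RingHom.coe_coe, ← er, ← et]
      rw [← hz]
      ring
    · intro r r' h
      obtain ⟨⟨s, hs⟩, hsr⟩ := (IsLocalization.eq_iff_exists P.primeCompl _).1 h
      obtain ⟨s, rfl⟩ := Ideal.Quotient.mk_surjective s
      obtain ⟨k, t, ht⟩ := c.exists_red s
      have et := (Ideal.Quotient.mk_eq_mk_iff_sub_mem (I := idJ A) _ _).2 ht
      rw [map_mul, map_pow] at et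
      have ht' : t ∉ m := by
        rw [hm, ← et]
        exact fun h => (Ideal.IsPrime.mem_or_mem ‹_› h).elim
          (fun h => hwP (Ideal.IsPrime.mem_of_pow_mem ‹_› _ h)) hs
      have h0 : Ideal.Quotient.mk (idJ A) (c.ι (t * (r - r'))) = 0 := by
        simp only [RingHom.comp_apply, AlgHom.toRingHom_eq_coe, RingHom.coe_coe] at hsr
        rw [map_mul, map_mul, map_sub, map_sub, ← et, mul_assoc, mul_sub, hsr, sub_self, mul_zero]
      have h1 := c.φ_J _ (Ideal.Quotient.eq_zero_iff_mem.1 h0)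
      rw [c.φ_ι] at h1
      obtain ⟨⟨_, j, rfl⟩, hj⟩ := (IsLocalization.map_eq_zero_iff (Submonoid.powers c.w)
        (Localization.Away c.w) _).1 h1
      refine ⟨⟨c.w ^ j * t, fun h => (Ideal.IsPrime.mem_or_mem ‹_› h).elim
        (fun h => hw (Ideal.IsPrime.mem_of_pow_mem ‹_› _ h)) ht'⟩, ?_⟩
      change c.w ^ j * t * r = c.w ^ j * t * r'
      simp only at hj
      linear_combination hj
  exact ⟨(IsLocalization.algEquiv m.primeCompl (Localization.AtPrime m)
    (Localization.AtPrime P)).toRingEquiv⟩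

end Chart

section ChartValues

variable {R : Type*} [CommRing R] [Algebra A R]

/-- coordinates of a point of the chart `b + f ≠ 0` -/
def valsU (t : Fin 6 → R) (v : R) : Fin 9 → R :=
  ![t 0 + v * (t 3 * t 2 - t 5 * t 0), t 1 - t 5, t 3,
    t 2 - v * ((t 1 - t 5) * t 2 - t 4 * t 0), t 4, t 5,
    v * (v * ((t 1 - t 5) * t 2 - t 4 * t 0) * t 0 + v * (t 3 * t 2 - t 5 * t 0) * t 2),
    v * ((t 1 - t 5) * t 2 - t 4 * t 0), v * (t 3 * t 2 - t 5 * t 0)]

/-- coordinates of a point of the chart `bf - ec ≠ 0` -/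
def valsW (t : Fin 6 → R) (v : R) : Fin 9 → R :=
  ![v * ((t 3 + t 4) * (t 5 * t 0 - t 3 * t 1)) + t 1, t 3, t 5,
    v * ((t 3 + t 4) * (t 4 * t 0 - t 2 * t 1)) - t 0, t 2, t 4,
    v * (t 5 * t 0 ^ 2 - t 2 * t 1 ^ 2 - t 0 * t 3 * t 1 + t 1 * t 0 * t 4), t 0, t 1]

theorem valsU_mem (t : Fin 6 → R) (v : R) (hv : t 1 * v = 1) :
    idJ A ≤ RingHom.ker (aeval (valsU t v) : D A →ₐ[A] R) := by
  have h1 : aeval (valsU t v) (Q1 A) = 0 := by
    simp [Q1, valsU]
    linear_combination (-(v * ((t 1 - t 5) * t 2 - t 4 * t 0) * t 0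
      + v * (t 3 * t 2 - t 5 * t 0) * t 2)) * hv
  have h2 : aeval (valsU t v) (Q2 A) = 0 := by
    simp [Q2, valsU]
    linear_combination (-((t 1 - t 5) * t 2 - t 4 * t 0)) * hv
  have h3 : aeval (valsU t v) (Q3 A) = 0 := by
    simp [Q3, valsU]
    linear_combination (-(t 3 * t 2 - t 5 * t 0)) * hv
  have hcof : detM A * L2 A = (ve * vc - vb * vf) * Q1 A + (vh * vc + vi * vf) * Q2 A
      - (vh * vb + vi * ve) * Q3 A := by
    simp only [detM, L2, Q1, Q2, Q3]; ring
  have h4 : aeval (valsU t v) (detM A) = 0 := by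
    have h := congrArg (aeval (valsU t v) : D A → R) hcof
    have hL : aeval (valsU t v) (L2 A) = t 1 := by simp [L2, valsU]
    rw [map_sub, map_add, map_mul, map_mul, map_mul, map_mul, h1, h2, h3, hL] at h
    linear_combination v * h - aeval (valsU t v) (detM A) * hv
  refine Ideal.span_le.2 ?_
  rintro x (rfl | rfl | rfl | rfl) <;> assumption

theorem valsW_mem (t : Fin 6 → R) (v : R) (hv : (t 3 * t 4 - t 2 * t 5) * v = 1) :
    idJ A ≤ RingHom.ker (aeval (valsW t v) : D A →ₐ[A] R) := by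
  have h1 : aeval (valsW t v) (Q1 A) = 0 := by
    simp [Q1, valsW]
    ring
  have h2 : aeval (valsW t v) (Q2 A) = 0 := by
    simp [Q2, valsW]
    linear_combination (t 0 * (t 3 + t 4)) * hv
  have h3 : aeval (valsW t v) (Q3 A) = 0 := by
    simp [Q3, valsW]
    linear_combination (t 1 * (t 3 + t 4)) * hv
  have h4 : aeval (valsW t v) (detM A) = 0 := by
    simp [detM, valsW]
    linear_combination (t 5 * t 0 ^ 2 - t 2 * t 1 ^ 2 - t 0 * t 3 * t 1 + t 1 * t 0 * t 4) * hv
  refine Ideal.span_le.2 ?_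
  rintro x (rfl | rfl | rfl | rfl) <;> assumption

end ChartValues

section Charts

variable (A)

/-- the chart `b + f` invertible: coordinates `u₁, u₂, u₃, c, e, f` -/
noncomputable def chartU : Chart A where
  ι := aeval (![L1 A, L2 A, L3 A, vc, ve, vf] : Fin 6 → D A)
  w := X 1
  φ := aeval (valsU (fun i => algebraMap (B A) (Localization.Away (X 1 : B A)) (X i))
    (IsLocalization.Away.invSelf (X 1 : B A)))
  φ_ι r := by
    induction r using MvPolynomial.induction_on with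
    | C a =>
      rw [← MvPolynomial.algebraMap_eq, AlgHom.commutes, AlgHom.commutes,
        ← IsScalarTower.algebraMap_apply]
    | add p q hp hq => simp only [map_add, hp, hq]
    | mul_X p j hp =>
      rw [map_mul, map_mul, map_mul, hp]
      congr 1
      fin_cases j <;> simp [valsU, L1, L2, L3]
  φ_J q hq := valsU_mem _ _ (IsLocalization.Away.mul_invSelf (X 1 : B A)) hq
  red j := by
    match j with
    | 0 => exact ⟨1, X 0 * X 1 + X 3 * X 2 - X 5 * X 0,
        mem_idJ_of 0 0 (-1) 0 (by simp [L1, L2, L3, Q3]; ring)⟩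
    | 1 => exact ⟨0, X 1 - X 5, mem_idJ_of 0 0 0 0 (by simp [L2])⟩
    | 2 => exact ⟨0, X 3, mem_idJ_of 0 0 0 0 (by simp)⟩
    | 3 => exact ⟨1, X 1 * X 2 - ((X 1 - X 5) * X 2 - X 4 * X 0),
        mem_idJ_of 0 1 0 0 (by simp [L1, L2, L3, Q2]; ring)⟩
    | 4 => exact ⟨0, X 4, mem_idJ_of 0 0 0 0 (by simp)⟩
    | 5 => exact ⟨0, X 5, mem_idJ_of 0 0 0 0 (by simp)⟩
    | 6 => exact ⟨2, ((X 1 - X 5) * X 2 - X 4 * X 0) * X 0 + (X 3 * X 2 - X 5 * X 0) * X 2,
        mem_idJ_of (-L2 A) (-L1 A) (-L3 A) 0 (by simp [L1, L2, L3, Q1, Q2, Q3]; ring)⟩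
    | 7 => exact ⟨1, (X 1 - X 5) * X 2 - X 4 * X 0,
        mem_idJ_of 0 (-1) 0 0 (by simp [L1, L2, L3, Q2]; ring)⟩
    | 8 => exact ⟨1, X 3 * X 2 - X 5 * X 0,
        mem_idJ_of 0 0 (-1) 0 (by simp [L1, L2, L3, Q3]; ring)⟩

/-- the chart `bf - ec` invertible: coordinates `h, i, e, b, f, c` -/
noncomputable def chartW : Chart A where
  ι := aeval (![vh, vi, ve, vb, vf, vc] : Fin 6 → D A)
  w := X 3 * X 4 - X 2 * X 5
  φ := aeval (valsW
    (fun i => algebraMap (B A) (Localization.Away (X 3 * X 4 - X 2 * X 5 : B A)) (X i))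
    (IsLocalization.Away.invSelf (X 3 * X 4 - X 2 * X 5 : B A)))
  φ_ι r := by
    induction r using MvPolynomial.induction_on with
    | C a =>
      rw [← MvPolynomial.algebraMap_eq, AlgHom.commutes, AlgHom.commutes,
        ← IsScalarTower.algebraMap_apply]
    | add p q hp hq => simp only [map_add, hp, hq]
    | mul_X p j hp =>
      rw [map_mul, map_mul, map_mul, hp]
      congr 1
      fin_cases j <;> simp [valsW]
  φ_J q hq := valsW_mem _ _ (by
    have hv := IsLocalization.Away.mul_invSelf (S := Localization.Away (X 3 * X 4 - X 2 * X 5 : B A))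
      (X 3 * X 4 - X 2 * X 5 : B A)
    rwa [map_sub, map_mul, map_mul] at hv) hq
  red j := by
    match j with
    | 0 => exact ⟨1, X 1 * (X 3 * X 4 - X 2 * X 5) + (X 3 + X 4) * (X 5 * X 0 - X 3 * X 1),
        mem_idJ_of 0 vc (-vb) 0 (by simp [Q2, Q3]; ring)⟩
    | 1 => exact ⟨0, X 3, mem_idJ_of 0 0 0 0 (by simp)⟩
    | 2 => exact ⟨0, X 5, mem_idJ_of 0 0 0 0 (by simp)⟩
    | 3 => exact ⟨1, (X 3 + X 4) * (X 4 * X 0 - X 2 * X 1) - (X 3 * X 4 - X 2 * X 5) * X 0,
        mem_idJ_of 0 vf (-ve) 0 (by simp [Q2, Q3]; ring)⟩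
    | 4 => exact ⟨0, X 2, mem_idJ_of 0 0 0 0 (by simp)⟩
    | 5 => exact ⟨0, X 4, mem_idJ_of 0 0 0 0 (by simp)⟩
    | 6 => exact ⟨1, X 5 * X 0 ^ 2 - X 2 * X 1 ^ 2 - X 0 * X 3 * X 1 + X 1 * X 0 * X 4,
        mem_idJ_of 0 0 0 1 (by simp [detM]; ring)⟩
    | 7 => exact ⟨0, X 0, mem_idJ_of 0 0 0 0 (by simp)⟩
    | 8 => exact ⟨0, X 1, mem_idJ_of 0 0 0 0 (by simp)⟩

variable {A}

theorem L2_notMem_idJ [Nontrivial A] : L2 A ∉ idJ A := fun h => by
  have h1 : (1 : D A) ∈ idJ A := mem_idJ_of_L2_mul 1 (by simpa using h)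
  have : idJ A ≤ RingHom.ker (constantCoeff : D A →+* A) := by
    refine Ideal.span_le.2 ?_
    rintro x (rfl | rfl | rfl | rfl) <;>
      simp [RingHom.mem_ker, Q1, Q2, Q3, detM]
  simpa using this h1

theorem idJ_isPrime [IsDomain A] : (idJ A).IsPrime := by
  refine (chartU A).prime (fun q hq => mem_idJ_of_L2_mul q ?_) (X_ne_zero _)
  simpa [chartU] using hq

theorem idL_isPrime [IsDomain A] : (idL A).IsPrime := by
  have : idL A = RingHom.ker (lam A) := by
    ext q; rw [RingHom.mem_ker, lam_eq_zero_iff]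
  rw [this]; exact RingHom.ker_isPrime _

end Charts

theorem ker_eval_eq_span {k : Type*} [CommRing k] {σ : Type*} (a : σ → k) :
    RingHom.ker (MvPolynomial.eval a) = Ideal.span (Set.range fun i => X i - C (a i)) := by
  have h : ∀ q : MvPolynomial σ k,
      q - C (eval a q) ∈ Ideal.span (Set.range fun i => X i - C (a i)) := by
    intro q
    induction q using MvPolynomial.induction_on with
    | C r => simp
    | add p q hp hq =>
      convert Ideal.add_mem _ hp hq using 1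
      simp only [map_add]; ring
    | mul_X p i hp =>
      convert Ideal.add_mem _ (Ideal.mul_mem_right (X i) _ hp) (Ideal.mul_mem_left _ (C (eval a p))
        (Ideal.subset_span ⟨i, rfl⟩ : X i - C (a i) ∈ Ideal.span (Set.range fun i => X i - C (a i)))) using 1
      simp only [map_mul, eval_X]; ring
  refine le_antisymm (fun q hq => ?_) (Ideal.span_le.2 ?_)
  · simpa [RingHom.mem_ker.1 hq] using h q
  · rintro _ ⟨i, rfl⟩; simp

theorem regular_at_point {k : Type*} [Field k] (c : Chart k) (a : Fin 9 → k)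
    (ha : ∀ q ∈ idJ k, eval a q = 0) (hw : eval a (c.ι c.w) ≠ 0)
    (P : Ideal (D k ⧸ idJ k)) [P.IsPrime]
    (hP : ∀ q, Ideal.Quotient.mk (idJ k) q ∈ P ↔ eval a q = 0) :
    IsRegularLocalRing (Localization.AtPrime P) ∧
      ringKrullDim (Localization.AtPrime P) = 6 := by
  let ev : B k →+* k := (MvPolynomial.eval a).comp c.ι.toRingHom
  have hsurj : Function.Surjective ev := fun r => ⟨C r, by
    simp [ev, ← MvPolynomial.algebraMap_eq]⟩
  have hmax : (RingHom.ker ev).IsMaximal := RingHom.ker_isMaximal_of_surjective ev hsurj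
  obtain ⟨e⟩ := c.isLocalization P (RingHom.ker ev)
    (fun r => by rw [RingHom.mem_ker, hP]; rfl) (by rw [RingHom.mem_ker]; exact hw)
  refine ⟨IsRegularLocalRing.of_ringEquiv e, ?_⟩
  rw [← ringKrullDim_eq_of_ringEquiv e, IsLocalization.AtPrime.ringKrullDim_eq_height
    (RingHom.ker ev) (Localization.AtPrime (RingHom.ker ev)),
    Groth.L22.AffineDim.height_of_isMaximal (k := k) (B k) (RingHom.ker ev),
    MvPolynomial.ringKrullDim_of_isNoetherianRing, ringKrullDim_eq_zero_of_field]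
  simp

end Groth.L08.Lie3
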