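import Mathlib.Algebra.MvPolynomial.CommRing
import Mathlib.Algebra.MvPolynomial.Equiv
import Mathlib.Algebra.MvPolynomial.NoZeroDivisors
import Mathlib.Algebra.Module.LinearMap.End
import Mathlib.Algebra.Algebra.Subalgebra.Lattice
import Mathlib.Algebra.Polynomial.RingDivision
import Mathlib.Data.Fintype.BigOperators
import Mathlib.LinearAlgebra.Finsupp.LinearCombination
import Mathlib.RingTheory.MvPolynomial.Ideal
import Mathlib.RingTheory.Ideal.Colon
import Mathlib.RingTheory.Ideal.MinimalPrime.Basic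
import Mathlib.RingTheory.Flat.TorsionFree
import Mathlib.RingTheory.Regular.RegularSequence
import Mathlib.RingTheory.RegularLocalRing.Polynomial
import Mathlib.RingTheory.KrullDimension.Polynomial
import Mathlib.RingTheory.Localization.Away.Basic
import Mathlib.RingTheory.DedekindDomain.Basic
import Mathlib.Tactic.FinCases
import Mathlib.Tactic.Ring
import Mathlib.Tactic.LinearCombination
import Mathlib.Tactic.ComputeDegree
import Mathlib.Tactic.Module

/-!
Three quadrics `y² + …`, `-x² + …`, `z² + …` in `S[x,y,z]` with parameters `p : Fin 6 → S`,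
`T : Fin 3 → S`: the quotient is free on `1, x, y, z, xy, xz, yz, xyz`.
-/

set_option maxHeartbeats 4000000

namespace Groth.L08.Lie3

open MvPolynomial

variable {S : Type*} [CommRing S] (p : Fin 6 → S) (T : Fin 3 → S)

/-- multiplication by x on the monomial basis `1, x, y, z, xy, xz, yz, xyz` -/
def opX : Module.End S (Fin 8 → S) where
  toFun w := ![
      (-(T 1)) * w 1 + (-(p 1) * (T 2) - (p 0) * (T 0)) * w 4 + (-(p 2) * (T 2) + (p 1) * (T 0)) * w 5 + ((p 1) * (p 4) * (T 2) + (p 1) * (p 3) * (T 0) - (p 1) * (p 2) * (T 0) + (p 0) * (p 2) * (T 1) + (p 0) * (p 1) * (T 2) + (T 0) * (T 2)) * w 7,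
      w 0 + (-(p 5)) * w 1 + (-(p 1) * (p 2) + (p 0)^2) * w 4 + (-(p 2)^2 - (p 0) * (p 1)) * w 5 + ((p 1) * (p 2) * (p 4) + (p 0) * (p 2) * (p 5) - (p 0) * (p 1) * (p 3) + 2 * (p 0) * (p 1) * (p 2) + (p 2) * (T 0) - (p 0) * (T 2)) * w 7,
      (-(p 0)) * w 1 + (-(p 1)^2 - (p 0) * (p 3) - (T 1)) * w 4 + ((p 1) * (p 3) - (p 1) * (p 2) + (T 2)) * w 5 + ((p 1) * (p 3)^2 - (p 1) * (p 2) * (p 3) + (p 1)^2 * (p 4) + (p 0) * (p 1)^2 + (p 0)^2 * (p 2) + (p 3) * (T 2) - (p 2) * (T 2) + (p 1) * (T 0)) * w 7,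
      (-(p 2)) * w 1 + ((p 1) * (p 4) + (p 0) * (p 1) + (T 0)) * w 4 + ((p 2) * (p 4) - (p 1)^2 - (T 1)) * w 5 + (-(p 1) * (p 4)^2 - (p 1)^2 * (p 3) + (p 1)^2 * (p 2) + (p 0) * (p 2)^2 - (p 0) * (p 1) * (p 4) - (p 4) * (T 0) - (p 1) * (T 2) - (p 0) * (T 0)) * w 7,
      w 2 + (-(p 5)) * w 4 + ((p 2)) * w 5 + ((p 2) * (p 3) - (p 2)^2 - (p 0) * (p 1)) * w 7,
      w 3 + (-(p 0)) * w 4 + (-(p 5)) * w 5 + (-(p 1) * (p 2) + (p 0) * (p 4) + (p 0)^2) * w 7,
      w 1 + ((p 3) - (p 2)) * w 4 + (-(p 4) - (p 0)) * w 5 + (-(p 3) * (p 4) + (p 2) * (p 4) - (p 1)^2 - (p 0) * (p 3) - (p 0) * (p 2) - (T 1)) * w 7,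
      w 6 + (-(p 5)) * w 7]
  map_add' v w := by
    funext i; fin_cases i <;> simp <;> ring
  map_smul' r v := by
    funext i; fin_cases i <;> simp <;> ring

/-- multiplication by y on the monomial basis `1, x, y, z, xy, xz, yz, xyz` -/
def opY : Module.End S (Fin 8 → S) where
  toFun w := ![
      ((T 0)) * w 2 + ((p 0) * (T 1)) * w 4 + (-(p 1) * (T 2)) * w 6 + ((p 1) * (p 2) * (T 1) + (p 0) * (p 2) * (T 2) - (p 0) * (p 1) * (T 0)) * w 7,
      (-(p 0)) * w 2 + ((p 0) * (p 5) + (T 0)) * w 4 + (-(p 1) * (p 2)) * w 6 + ((p 1) * (p 2) * (p 5) + (p 0) * (p 2)^2 + (p 0)^2 * (p 1) - (p 1) * (T 2)) * w 7,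
      w 0 + ((p 3)) * w 2 + ((p 0)^2) * w 4 + (-(p 1)^2) * w 6 + (-(p 0) * (p 1) * (p 3) + 2 * (p 0) * (p 1) * (p 2) - (p 0) * (T 2)) * w 7,
      (-(p 1)) * w 2 + ((p 0) * (p 2)) * w 4 + ((p 1) * (p 4) + (T 0)) * w 6 + ((p 1) * (p 2)^2 - (p 0) * (p 2) * (p 4) + (p 0) * (p 1)^2 + (p 0) * (T 1)) * w 7,
      w 1 + ((p 3)) * w 4 + (-(p 1)^2 - (p 0) * (p 2)) * w 7,
      (-(p 1)) * w 4 + (-(p 0)) * w 6 + ((p 1) * (p 4) + (p 0) * (p 5) + (T 0)) * w 7,
      w 3 + (-(p 0)) * w 4 + ((p 3)) * w 6 + (-(p 1) * (p 2) + (p 0) * (p 4) + (p 0)^2) * w 7,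
      w 5 + ((p 3)) * w 7]
  map_add' v w := by
    funext i; fin_cases i <;> simp <;> ring
  map_smul' r v := by
    funext i; fin_cases i <;> simp <;> ring

/-- multiplication by z on the monomial basis `1, x, y, z, xy, xz, yz, xyz` -/
def opZ : Module.End S (Fin 8 → S) where
  toFun w := ![
      ((T 2)) * w 3 + (-(p 2) * (T 1)) * w 5 + ((p 1) * (T 0)) * w 6 + (-(p 1) * (p 2) * (T 2) - (p 0) * (p 2) * (T 0) + (p 0) * (p 1) * (T 1)) * w 7,
      ((p 2)) * w 3 + (-(p 2) * (p 5) + (T 2)) * w 5 + (-(p 0) * (p 1)) * w 6 + (-(p 1) * (p 2)^2 + (p 0) * (p 1) * (p 5) + (p 0)^2 * (p 2) + (p 1) * (T 0)) * w 7,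
      ((p 1)) * w 3 + (-(p 0) * (p 2)) * w 5 + ((p 1) * (p 3) + (T 2)) * w 6 + (-(p 1)^2 * (p 2) - (p 0) * (p 2) * (p 3) + (p 0)^2 * (p 1) - (p 2) * (T 1)) * w 7,
      w 0 + (-(p 4)) * w 3 + (-(p 2)^2) * w 5 + (-(p 1)^2) * w 6 + ((p 1) * (p 2) * (p 4) + 2 * (p 0) * (p 1) * (p 2) + (p 2) * (T 0)) * w 7,
      ((p 1)) * w 5 + ((p 2)) * w 6 + (-(p 2) * (p 5) + (p 1) * (p 3) + (T 2)) * w 7,
      w 1 + (-(p 4)) * w 5 + (-(p 1)^2 - (p 0) * (p 2)) * w 7,
      w 2 + ((p 2)) * w 5 + (-(p 4)) * w 6 + ((p 2) * (p 3) - (p 2)^2 - (p 0) * (p 1)) * w 7,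
      w 4 + (-(p 4)) * w 7]
  map_add' v w := by
    funext i; fin_cases i <;> simp <;> ring
  map_smul' r v := by
    funext i; fin_cases i <;> simp <;> ring

noncomputable def rel : Fin 3 → MvPolynomial (Fin 3) S :=
  ![X 1 * X 1 - C (p 3) * X 1 + C (p 0) * X 0 + C (p 1) * X 2 - C (T 0),
    -(X 0 * X 0) - C (p 5) * X 0 - C (p 0) * X 1 + X 1 * X 2 - C (p 2) * X 2 - C (T 1),
    X 2 * X 2 + C (p 4) * X 2 - C (p 2) * X 0 - C (p 1) * X 1 - C (T 2)]

/-- the monomial basis -/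
noncomputable def mons : Fin 8 → MvPolynomial (Fin 3) S :=
  ![1, X 0, X 1, X 2, X 0 * X 1, X 0 * X 2, X 1 * X 2, X 0 * X 1 * X 2]

/-- the coefficient vector of the determinant -/
def dvec : Fin 8 → S := ![-(p 3) * (p 4) * (p 5) - (p 2)^2 * (p 3) + (p 1)^2 * (p 5) - 2 * (p 0) * (p 1) * (p 2) - (p 0)^2 * (p 4), -(p 3) * (p 4) + (p 1)^2 + (p 0) * (p 2), (p 4) * (p 5) + (p 2)^2 + (p 0) * (p 1), -(p 3) * (p 5) + (p 1) * (p 2) - (p 0)^2, (p 4), -(p 3), (p 5), 1]

theorem opXY : opX p T * opY p T = opY p T * opX p T := by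
  refine LinearMap.ext fun w => funext fun i => ?_
  fin_cases i <;> simp [opX, opY] <;> ring

theorem opXZ : opX p T * opZ p T = opZ p T * opX p T := by
  refine LinearMap.ext fun w => funext fun i => ?_
  fin_cases i <;> simp [opX, opZ] <;> ring

theorem opYZ : opY p T * opZ p T = opZ p T * opY p T := by
  refine LinearMap.ext fun w => funext fun i => ?_
  fin_cases i <;> simp [opY, opZ] <;> ring

def ops : Fin 3 → Module.End S (Fin 8 → S) := ![opX p T, opY p T, opZ p T]

theorem ops_comm : ∀ a ∈ Set.range (ops p T), ∀ b ∈ Set.range (ops p T), a * b = b * a := by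
  rintro _ ⟨i, rfl⟩ _ ⟨j, rfl⟩
  fin_cases i <;> fin_cases j <;>
    simp [ops, opXY, opXZ, opYZ]

/-- the action of `S[x,y,z]` on `S⁸` -/
noncomputable def act : MvPolynomial (Fin 3) S →ₐ[S] Module.End S (Fin 8 → S) :=
  letI := Algebra.adjoinCommRingOfComm S (ops_comm p T)
  (Algebra.adjoin S (Set.range (ops p T))).val.comp
    (aeval fun i => ⟨ops p T i, Algebra.subset_adjoin ⟨i, rfl⟩⟩)

@[simp] theorem act_X (i : Fin 3) : act p T (X i) = ops p T i := by
  simp [act]

@[simp] theorem act_C (s : S) : act p T (C s) = algebraMap S _ s := by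
  rw [← MvPolynomial.algebraMap_eq, AlgHom.commutes]

def e0 : Fin 8 → S := ![1, 0, 0, 0, 0, 0, 0, 0]

/-- coordinates of a polynomial in the monomial basis -/
noncomputable def coord : MvPolynomial (Fin 3) S →ₗ[S] (Fin 8 → S) where
  toFun r := act p T r e0
  map_add' r s := by rw [map_add]; rfl
  map_smul' c r := by rw [map_smul]; rfl

theorem coord_mul (r s : MvPolynomial (Fin 3) S) :
    coord p T (r * s) = act p T r (coord p T s) := by
  simp only [coord, LinearMap.coe_mk, AddHom.coe_mk, map_mul]; rfl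

theorem coord_C_mul (c : S) (s : MvPolynomial (Fin 3) S) :
    coord p T (C c * s) = c • coord p T s := by
  rw [← smul_eq_C_mul, map_smul]

theorem coord_C (c : S) : coord p T (C c) = c • e0 := by
  simp [coord]

theorem coord_mons (k : Fin 8) : coord p T (mons k) = Pi.single k 1 := by
  funext i
  fin_cases k <;> fin_cases i <;>
    simp [mons, coord, ops, opX, opY, opZ, e0, map_mul]

theorem coord_rel (j : Fin 3) : coord p T (rel p T j) = 0 := by
  funext i
  fin_cases j <;> fin_cases i <;>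
    simp [rel, coord, ops, opX, opY, opZ, e0, map_mul] <;> ring

/-- the linear combination of the monomial basis -/
noncomputable def comb : (Fin 8 → S) →ₗ[S] MvPolynomial (Fin 3) S :=
  Fintype.linearCombination S (mons (S := S))

theorem coord_comb (w : Fin 8 → S) : coord p T (comb w) = w := by
  funext i
  simp only [comb, Fintype.linearCombination_apply, map_sum, map_smul, coord_mons]
  simp [Pi.single_apply]

theorem coord_span {r : MvPolynomial (Fin 3) S} (h : r ∈ Ideal.span (Set.range (rel p T))) :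
    coord p T r = 0 := by
  obtain ⟨c, rfl⟩ := (Ideal.mem_span_range_iff_exists_fun (R := MvPolynomial (Fin 3) S)).1 h
  rw [map_sum]
  refine Finset.sum_eq_zero fun j _ => ?_
  rw [coord_mul, coord_rel, map_zero]

theorem mons_mul_X (i : Fin 3) (k : Fin 8) :
    mons k * X i - comb (ops p T i (Pi.single k 1)) ∈ Ideal.span (Set.range (rel p T)) := by
  rw [Ideal.mem_span_range_iff_exists_fun]
  fin_cases i <;> fin_cases k
  · refine ⟨![0, 0, 0], ?_⟩
    simp [comb, Fintype.linearCombination_apply, Fin.sum_univ_three, Fin.sum_univ_eight,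
      mons, rel, ops, opX, opY, opZ, smul_eq_C_mul, map_ofNat C 2] <;> ring
  · refine ⟨![0, -1, 0], ?_⟩
    simp [comb, Fintype.linearCombination_apply, Fin.sum_univ_three, Fin.sum_univ_eight,
      mons, rel, ops, opX, opY, opZ, smul_eq_C_mul, map_ofNat C 2] <;> ring
  · refine ⟨![0, 0, 0], ?_⟩
    simp [comb, Fintype.linearCombination_apply, Fin.sum_univ_three, Fin.sum_univ_eight,
      mons, rel, ops, opX, opY, opZ, smul_eq_C_mul, map_ofNat C 2] <;> ring
  · refine ⟨![0, 0, 0], ?_⟩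
    simp [comb, Fintype.linearCombination_apply, Fin.sum_univ_three, Fin.sum_univ_eight,
      mons, rel, ops, opX, opY, opZ, smul_eq_C_mul, map_ofNat C 2] <;> ring
  · refine ⟨![-(C (p 0)) + (X 2), -(X 1), -(C (p 1))], ?_⟩
    simp [comb, Fintype.linearCombination_apply, Fin.sum_univ_three, Fin.sum_univ_eight,
      mons, rel, ops, opX, opY, opZ, smul_eq_C_mul, map_ofNat C 2] <;> ring
  · refine ⟨![(C (p 1)), -(X 2), -(C (p 2)) + (X 1)], ?_⟩
    simp [comb, Fintype.linearCombination_apply, Fin.sum_univ_three, Fin.sum_univ_eight,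
      mons, rel, ops, opX, opY, opZ, smul_eq_C_mul, map_ofNat C 2] <;> ring
  · refine ⟨![0, 0, 0], ?_⟩
    simp [comb, Fintype.linearCombination_apply, Fin.sum_univ_three, Fin.sum_univ_eight,
      mons, rel, ops, opX, opY, opZ, smul_eq_C_mul, map_ofNat C 2] <;> ring
  · refine ⟨![(C (p 1)) * (C (p 3)) - (C (p 1)) * (C (p 2)) - (X 2) * (C (p 0)) + (X 2)^2, (C (p 0)) * (C (p 2)) - (X 1) * (X 2), (C (p 1)) * (C (p 4)) + (C (p 0)) * (C (p 1)) - (X 2) * (C (p 1)) + (X 1) * (C (p 3)) - (X 1) * (C (p 2)) - (X 0) * (C (p 0)) + (C (T 0))], ?_⟩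
    simp [comb, Fintype.linearCombination_apply, Fin.sum_univ_three, Fin.sum_univ_eight,
      mons, rel, ops, opX, opY, opZ, smul_eq_C_mul, map_ofNat C 2] <;> ring
  · refine ⟨![0, 0, 0], ?_⟩
    simp [comb, Fintype.linearCombination_apply, Fin.sum_univ_three, Fin.sum_univ_eight,
      mons, rel, ops, opX, opY, opZ, smul_eq_C_mul, map_ofNat C 2] <;> ring
  · refine ⟨![0, 0, 0], ?_⟩
    simp [comb, Fintype.linearCombination_apply, Fin.sum_univ_three, Fin.sum_univ_eight,
      mons, rel, ops, opX, opY, opZ, smul_eq_C_mul, map_ofNat C 2] <;> ring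
  · refine ⟨![1, 0, 0], ?_⟩
    simp [comb, Fintype.linearCombination_apply, Fin.sum_univ_three, Fin.sum_univ_eight,
      mons, rel, ops, opX, opY, opZ, smul_eq_C_mul, map_ofNat C 2] <;> ring
  · refine ⟨![0, 0, 0], ?_⟩
    simp [comb, Fintype.linearCombination_apply, Fin.sum_univ_three, Fin.sum_univ_eight,
      mons, rel, ops, opX, opY, opZ, smul_eq_C_mul, map_ofNat C 2] <;> ring
  · refine ⟨![(X 0), (C (p 0)), 0], ?_⟩
    simp [comb, Fintype.linearCombination_apply, Fin.sum_univ_three, Fin.sum_univ_eight,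
      mons, rel, ops, opX, opY, opZ, smul_eq_C_mul, map_ofNat C 2] <;> ring
  · refine ⟨![0, 0, 0], ?_⟩
    simp [comb, Fintype.linearCombination_apply, Fin.sum_univ_three, Fin.sum_univ_eight,
      mons, rel, ops, opX, opY, opZ, smul_eq_C_mul, map_ofNat C 2] <;> ring
  · refine ⟨![(X 2), 0, -(C (p 1))], ?_⟩
    simp [comb, Fintype.linearCombination_apply, Fin.sum_univ_three, Fin.sum_univ_eight,
      mons, rel, ops, opX, opY, opZ, smul_eq_C_mul, map_ofNat C 2] <;> ring
  · refine ⟨![-(C (p 0)) * (C (p 1)) + (X 0) * (X 2), (C (p 1)) * (C (p 2)) + (X 2) * (C (p 0)), (C (p 0)) * (C (p 2)) - (X 1) * (C (p 0)) - (X 0) * (C (p 1))], ?_⟩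
    simp [comb, Fintype.linearCombination_apply, Fin.sum_univ_three, Fin.sum_univ_eight,
      mons, rel, ops, opX, opY, opZ, smul_eq_C_mul, map_ofNat C 2] <;> ring
  · refine ⟨![0, 0, 0], ?_⟩
    simp [comb, Fintype.linearCombination_apply, Fin.sum_univ_three, Fin.sum_univ_eight,
      mons, rel, ops, opX, opY, opZ, smul_eq_C_mul, map_ofNat C 2] <;> ring
  · refine ⟨![0, 0, 0], ?_⟩
    simp [comb, Fintype.linearCombination_apply, Fin.sum_univ_three, Fin.sum_univ_eight,
      mons, rel, ops, opX, opY, opZ, smul_eq_C_mul, map_ofNat C 2] <;> ring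
  · refine ⟨![0, 0, 0], ?_⟩
    simp [comb, Fintype.linearCombination_apply, Fin.sum_univ_three, Fin.sum_univ_eight,
      mons, rel, ops, opX, opY, opZ, smul_eq_C_mul, map_ofNat C 2] <;> ring
  · refine ⟨![0, 0, 1], ?_⟩
    simp [comb, Fintype.linearCombination_apply, Fin.sum_univ_three, Fin.sum_univ_eight,
      mons, rel, ops, opX, opY, opZ, smul_eq_C_mul, map_ofNat C 2] <;> ring
  · refine ⟨![0, 0, 0], ?_⟩
    simp [comb, Fintype.linearCombination_apply, Fin.sum_univ_three, Fin.sum_univ_eight,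
      mons, rel, ops, opX, opY, opZ, smul_eq_C_mul, map_ofNat C 2] <;> ring
  · refine ⟨![0, -(C (p 2)), (X 0)], ?_⟩
    simp [comb, Fintype.linearCombination_apply, Fin.sum_univ_three, Fin.sum_univ_eight,
      mons, rel, ops, opX, opY, opZ, smul_eq_C_mul, map_ofNat C 2] <;> ring
  · refine ⟨![(C (p 1)), 0, (X 1)], ?_⟩
    simp [comb, Fintype.linearCombination_apply, Fin.sum_univ_three, Fin.sum_univ_eight,
      mons, rel, ops, opX, opY, opZ, smul_eq_C_mul, map_ofNat C 2] <;> ring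
  · refine ⟨![-(C (p 0)) * (C (p 2)) + (X 2) * (C (p 2)) + (X 0) * (C (p 1)), (C (p 0)) * (C (p 1)) - (X 1) * (C (p 2)), -(C (p 1)) * (C (p 2)) + (X 0) * (X 1)], ?_⟩
    simp [comb, Fintype.linearCombination_apply, Fin.sum_univ_three, Fin.sum_univ_eight,
      mons, rel, ops, opX, opY, opZ, smul_eq_C_mul, map_ofNat C 2] <;> ring

theorem sub_comb_mem (r : MvPolynomial (Fin 3) S) :
    r - comb (coord p T r) ∈ Ideal.span (Set.range (rel p T)) := by
  induction r using MvPolynomial.induction_on with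
  | C c =>
    have : comb (coord p T (C c)) = C c := by
      rw [coord_C, map_smul]
      simp [comb, Fintype.linearCombination_apply, e0, mons, Fin.sum_univ_eight, smul_eq_C_mul]
    simp [this]
  | add r s hr hs =>
    convert Ideal.add_mem _ hr hs using 1
    simp only [map_add]; ring
  | mul_X r i hr =>
    have h1 : ∀ w : Fin 8 → S,
        comb w * X i - comb (ops p T i w) ∈ Ideal.span (Set.range (rel p T)) := by
      intro w
      have hw : w = ∑ k, w k • Pi.single k (1 : S) := (pi_eq_sum_univ' w)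
      rw [hw]
      simp only [map_sum, map_smul, Finset.sum_mul, smul_mul_assoc]
      rw [← Finset.sum_sub_distrib]
      refine Ideal.sum_mem _ fun k _ => ?_
      rw [← smul_sub]
      refine Submodule.smul_of_tower_mem _ _ ?_
      have : comb (Pi.single k (1 : S)) = mons k := by
        simp [comb, Fintype.linearCombination_apply, Pi.single_apply]
      rw [this]
      exact mons_mul_X p T i k
    have h2 : coord p T (r * X i) = ops p T i (coord p T r) := by
      rw [mul_comm, coord_mul, act_X]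
    rw [h2]
    have := Ideal.add_mem _ (Ideal.mul_mem_right (X i) _ hr) (h1 (coord p T r))
    convert this using 1
    ring

theorem coord_eq_zero_iff (r : MvPolynomial (Fin 3) S) :
    coord p T r = 0 ↔ r ∈ Ideal.span (Set.range (rel p T)) := by
  refine ⟨fun h => ?_, coord_span p T⟩
  have := sub_comb_mem p T r
  rwa [h, map_zero, sub_zero] at this

end Groth.L08.Lie3
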