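import Groth.Prelude.Def_W4c1bouilletffgsL3
import Groth.Agent.L08.Lie3.Free8

/-!
The Jacobi ideals `I ⊆ J, L` in `A[a,…,i]`: coordinates in which `D/I` is free of rank 8 over a
polynomial ring in six variables, and the consequences.
-/

set_option maxHeartbeats 1000000

namespace Groth.L08.Lie3

open MvPolynomial Lie3Mod

variable (A : Type*) [CommRing A]

/-- the six parameters -/
abbrev B : Type _ := MvPolynomial (Fin 6) A

noncomputable def par : Fin 6 → B A := fun i => X i

noncomputable def psi : D A →ₐ[A] MvPolynomial (Fin 3) (B A) :=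
  aeval ![X 0 + C (X 1), X 1 - C (X 2), X 2 + C (X 4), X 2 - C (X 0), X 0 + C (X 5), C (X 2),
    -X 1 + C (X 3), C (X 0), C (X 1)]

noncomputable def theta : MvPolynomial (Fin 3) (B A) →ₐ[A] D A :=
  MvPolynomial.aevalTower (MvPolynomial.aeval
      (![vh, vi, vf, vg + L2 A, vc - L3 A, ve - L1 A] : Fin 6 → D A))
    ![L1 A, L2 A, L3 A]

variable {A}

theorem theta_psi (q : D A) : theta A (psi A q) = q := by
  have : (theta A).comp (psi A) = AlgHom.id A (D A) := by
    refine MvPolynomial.algHom_ext fun i => ?_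
    fin_cases i <;> simp [theta, psi, L1, L2, L3] <;> ring
  exact AlgHom.congr_fun this q

theorem psi_L1 : psi A (L1 A) = X 0 := by simp [psi, L1]

theorem psi_L2 : psi A (L2 A) = X 1 := by simp [psi, L2]

theorem psi_L3 : psi A (L3 A) = X 2 := by simp [psi, L3]

theorem psi_X (j : Fin 9) : psi A (X j) = ![X 0 + C (X 1), X 1 - C (X 2), X 2 + C (X 4),
    X 2 - C (X 0), X 0 + C (X 5), C (X 2), -X 1 + C (X 3), C (X 0), C (X 1)] j := aeval_X _ _

theorem psi_theta (r : MvPolynomial (Fin 3) (B A)) : psi A (theta A r) = r := by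
  have hX : ∀ i, psi A (![L1 A, L2 A, L3 A] i) = X i := by
    intro i
    match i with
    | 0 => exact psi_L1
    | 1 => exact psi_L2
    | 2 => exact psi_L3
  have hq : ∀ i, psi A ((![vh, vi, vf, vg + L2 A, vc - L3 A, ve - L1 A] : Fin 6 → D A) i)
      = C (X i) := by
    intro i
    match i with
    | 0 => exact psi_X 7
    | 1 => exact psi_X 8
    | 2 => exact psi_X 5
    | 3 => exact ((map_add _ _ _).trans (by rw [psi_L2, psi_X 6]; simp))
    | 4 => exact ((map_sub _ _ _).trans (by rw [psi_L3, psi_X 2]; simp))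
    | 5 => exact ((map_sub _ _ _).trans (by rw [psi_L1, psi_X 4]; simp))
  have hC : ∀ b : B A, psi A (theta A (C b)) = C b := by
    intro b
    rw [theta, aevalTower_C]
    induction b using MvPolynomial.induction_on with
    | C a => simp
    | add b c hb hc => simp only [map_add, hb, hc]
    | mul_X b i hb => rw [map_mul, map_mul, hb, aeval_X, hq, map_mul]
  induction r using MvPolynomial.induction_on with
  | C b => exact hC b
  | add r s hr hs => simp only [map_add, hr, hs]
  | mul_X r i hr => rw [map_mul, map_mul, hr, theta, aevalTower_X, hX]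

theorem psi_Q1 : psi A (Q1 A) = rel (par A) 0 0 := by
  simp [psi, Q1, rel, par]; ring

theorem psi_Q2 : psi A (Q2 A) = rel (par A) 0 1 := by
  simp [psi, Q2, rel, par]; ring

theorem psi_Q3 : psi A (Q3 A) = rel (par A) 0 2 := by
  simp [psi, Q3, rel, par]; ring

variable (A)

/-- coordinates of `D/I` over the parameters -/
noncomputable def coordI : D A →ₗ[A] (Fin 8 → B A) :=
  ((coord (par A) 0).restrictScalars A).comp (psi A).toLinearMap

variable {A}

theorem coordI_apply (q : D A) : coordI A q = coord (par A) 0 (psi A q) := rfl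

theorem map_idI : Ideal.span (Set.range (rel (par A) 0)) = (idI A).map (psi A) := by
  rw [idI, Ideal.map_span]
  congr 1
  ext r
  simp only [Set.mem_range, Set.image_insert_eq, Set.image_singleton, psi_Q1, psi_Q2, psi_Q3,
    Set.mem_insert_iff, Set.mem_singleton_iff]
  constructor
  · rintro ⟨i, rfl⟩; fin_cases i <;> simp
  · rintro (rfl | rfl | rfl) <;> exact ⟨_, rfl⟩

theorem coordI_eq_zero_iff (q : D A) : coordI A q = 0 ↔ q ∈ idI A := by
  rw [coordI_apply, coord_eq_zero_iff, map_idI]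
  refine ⟨fun h => ?_, Ideal.mem_map_of_mem _⟩
  have := Ideal.mem_map_of_mem (theta A) h
  rw [theta_psi] at this
  refine (Ideal.map_le_iff_le_comap.2 ?_ : ((idI A).map (psi A)).map (theta A) ≤ idI A) this
  refine Ideal.map_le_iff_le_comap.2 fun x hx => ?_
  rw [Ideal.mem_comap, Ideal.mem_comap, theta_psi]
  exact hx

theorem coordI_mul (r q : D A) :
    coordI A (r * q) = act (par A) 0 (psi A r) (coordI A q) := by
  rw [coordI_apply, map_mul, coord_mul]; rfl

theorem coordI_detM : coordI A (detM A) = dvec (par A) := by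
  have h : psi A (detM A) - comb (dvec (par A)) ∈ Ideal.span (Set.range (rel (par A) 0)) := by
    rw [Ideal.mem_span_range_iff_exists_fun]
    refine ⟨![-(C (par A 2)), 0, 0], ?_⟩
    simp [Fin.sum_univ_three, rel, par, psi, detM, comb, Fintype.linearCombination_apply,
      Fin.sum_univ_eight, mons, dvec, smul_eq_C_mul, map_ofNat C 2]
    ring
  have := coord_span (par A) 0 h
  rwa [map_sub, coord_comb, sub_eq_zero] at this

variable (A)

/-- coordinates of `D/J`: reduce modulo the vector of `det M` -/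
noncomputable def coordJ : D A →ₗ[A] (Fin 8 → B A) where
  toFun q := coordI A q - coordI A q 7 • dvec (par A)
  map_add' q r := by
    simp only [map_add, Pi.add_apply, add_smul]; abel
  map_smul' c q := by
    simp [smul_sub, smul_assoc]

variable {A}

theorem act_dvec (r : MvPolynomial (Fin 3) (B A)) :
    ∃ s : B A, act (par A) 0 r (dvec (par A)) = s • dvec (par A) := by
  induction r using MvPolynomial.induction_on with
  | C b => exact ⟨b, by rw [act_C]; rfl⟩
  | add r s hr hs =>
    obtain ⟨a, ha⟩ := hr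
    obtain ⟨b, hb⟩ := hs
    exact ⟨a + b, by rw [map_add, LinearMap.add_apply, ha, hb, add_smul]⟩
  | mul_X r i hr =>
    refine ⟨0, ?_⟩
    have : ops (par A) 0 i (dvec (par A)) = 0 := by
      funext j
      fin_cases i <;> fin_cases j <;> simp [ops, opX, opY, opZ, dvec] <;> ring
    rw [map_mul, act_X, zero_smul]
    simp [this]

theorem coordJ_eq_zero_iff (q : D A) : coordJ A q = 0 ↔ q ∈ idJ A := by
  have hJ : idJ A = idI A ⊔ Ideal.span {detM A} := by
    rw [idI, idJ, ← Ideal.span_union]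
    congr 1
    ext x; simp; tauto
  rw [hJ]
  constructor
  · intro h
    have h' : coordI A q = coordI A q 7 • dvec (par A) := sub_eq_zero.1 h
    set s := coordI A q 7
    have h2 : coordI A (q - theta A (C s) * detM A) = 0 := by
      rw [map_sub, coordI_mul, psi_theta, act_C, coordI_detM, h']
      simp [Algebra.smul_def]
    rw [coordI_eq_zero_iff] at h2
    have := Submodule.add_mem_sup h2
      (Ideal.mul_mem_left _ (theta A (C s)) (Ideal.mem_span_singleton_self (detM A)))
    simpa using this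
  · intro h
    obtain ⟨y, hy, z, hz, rfl⟩ := Submodule.mem_sup.1 h
    obtain ⟨r, rfl⟩ := Ideal.mem_span_singleton'.1 hz
    obtain ⟨s, hs⟩ := act_dvec (A := A) (psi A r)
    have h7 : dvec (par A) 7 = 1 := rfl
    change coordI A (y + r * detM A) - coordI A (y + r * detM A) 7 • dvec (par A) = 0
    rw [map_add, (coordI_eq_zero_iff y).2 hy, zero_add, coordI_mul, coordI_detM, hs]
    simp [h7]

theorem coordJ_C_mul (b : B A) (q : D A) :
    coordJ A (theta A (C b) * q) = b • coordJ A q := by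
  change coordI A _ - coordI A _ 7 • _ = b • (coordI A q - coordI A q 7 • _)
  rw [coordI_mul, psi_theta, act_C, Module.algebraMap_end_apply]
  simp [smul_sub, smul_smul]

/-- a polynomial in the parameters which the class of `u₂` divides modulo `J` -/
noncomputable def normU : B A :=
  -(par A 1)^3 * (par A 2) * (par A 3) * (par A 4) * (par A 5) - (par A 1)^3 * (par A 2)^3 * (par A 3) + (par A 1)^5 * (par A 2) * (par A 5) - (par A 0) * (par A 1)^2 * (par A 3) * (par A 4)^2 * (par A 5) - (par A 0) * (par A 1)^2 * (par A 2)^2 * (par A 3) * (par A 4) + (par A 0) * (par A 1)^4 * (par A 4) * (par A 5) - 2 * (par A 0) * (par A 1)^4 * (par A 2)^2 - (par A 0)^2 * (par A 1) * (par A 3) * (par A 4) * (par A 5)^2 - (par A 0)^2 * (par A 1) * (par A 2)^2 * (par A 3) * (par A 5) + (par A 0)^2 * (par A 1)^3 * (par A 5)^2 - 3 * (par A 0)^2 * (par A 1)^3 * (par A 2) * (par A 4) + (par A 0)^3 * (par A 2) * (par A 3) * (par A 4) * (par A 5) + (par A 0)^3 * (par A 2)^3 * (par A 3) - (par A 0)^3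 * (par A 1)^2 * (par A 4)^2 - 3 * (par A 0)^3 * (par A 1)^2 * (par A 2) * (par A 5) - (par A 0)^4 * (par A 1) * (par A 4) * (par A 5) + 2 * (par A 0)^4 * (par A 1) * (par A 2)^2 + (par A 0)^5 * (par A 2) * (par A 4)

noncomputable def adjU : Fin 8 → B A :=
  ![(par A 1)^2 * (par A 3)^2 * (par A 4)^2 + (par A 1)^2 * (par A 2) * (par A 3)^2 * (par A 5) - (par A 1)^3 * (par A 2) * (par A 4) * (par A 5) - (par A 1)^3 * (par A 2)^2 * (par A 3) - (par A 1)^3 * (par A 2)^3 - 2 * (par A 1)^4 * (par A 3) * (par A 4) + (par A 1)^6 + (par A 0) * (par A 1) * (par A 3)^2 * (par A 4) * (par A 5) + (par A 0) * (par A 1) * (par A 2)^2 * (par A 3)^2 - (par A 0) * (par A 1)^2 * (par A 4)^2 * (par A 5) - (par A 0) * (par A 1)^2 * (par A 2) * (par A 3) * (par A 4) - (par A 0) * (par A 1)^2 * (par A 2)^2 * (par A 4) - (par A 0) * (par A 1)^4 * (par A 2) + (par A 0)^2 * (par A 3)^2 * (par A 5)^2 - (par A 0)^2 * (par A 2) * (par A 3)^2 * (par A 4) - (par A 0)^2 * (par A 1) * (par A 4) * (par A 5)^2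 - (par A 0)^2 * (par A 1) * (par A 2) * (par A 3) * (par A 5) - (par A 0)^2 * (par A 1) * (par A 2)^2 * (par A 5) + 4 * (par A 0)^2 * (par A 1)^2 * (par A 2) * (par A 3) - (par A 0)^2 * (par A 1)^3 * (par A 4) + (par A 0)^3 * (par A 2) * (par A 4) * (par A 5) + (par A 0)^3 * (par A 2)^2 * (par A 3) + (par A 0)^3 * (par A 2)^3 - (par A 0)^3 * (par A 1)^2 * (par A 5) + 2 * (par A 0)^3 * (par A 1)^3 + 2 * (par A 0)^4 * (par A 3) * (par A 5) + (par A 0)^4 * (par A 1) * (par A 2) + (par A 0)^6,
    (par A 1)^2 * (par A 2) * (par A 3)^2 - (par A 1)^3 * (par A 2) * (par A 4) - (par A 0) * (par A 1)^2 * (par A 4)^2 + (par A 0) * (par A 1)^3 * (par A 3) + (par A 0)^2 * (par A 3)^2 * (par A 5) - (par A 0)^2 * (par A 1) * (par A 4) * (par A 5) + (par A 0)^3 * (par A 2) * (par A 4) + (par A 0)^4 * (par A 3),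
    -(par A 1)^2 * (par A 3) * (par A 4)^2 - (par A 1)^2 * (par A 2) * (par A 3) * (par A 5) + (par A 1)^3 * (par A 2)^2 + (par A 1)^4 * (par A 4) - (par A 0) * (par A 1) * (par A 3) * (par A 4) * (par A 5) - (par A 0) * (par A 1) * (par A 2)^2 * (par A 3) + (par A 0) * (par A 1)^2 * (par A 2) * (par A 4) - (par A 0)^2 * (par A 3) * (par A 5)^2 + (par A 0)^2 * (par A 2) * (par A 3) * (par A 4) + (par A 0)^2 * (par A 1) * (par A 2) * (par A 5) - 2 * (par A 0)^2 * (par A 1)^2 * (par A 2) - (par A 0)^3 * (par A 2)^2 - (par A 0)^4 * (par A 5),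
    (par A 1)^2 * (par A 3)^2 * (par A 4) - (par A 1)^3 * (par A 2) * (par A 5) - (par A 1)^4 * (par A 3) - (par A 0) * (par A 1)^2 * (par A 4) * (par A 5) - (par A 0) * (par A 1)^2 * (par A 2) * (par A 3) - (par A 0)^2 * (par A 2) * (par A 3)^2 - (par A 0)^2 * (par A 1) * (par A 5)^2 - (par A 0)^2 * (par A 1)^3 - (par A 0)^3 * (par A 3) * (par A 5) + (par A 0)^3 * (par A 2) * (par A 5) - (par A 0)^3 * (par A 1) * (par A 3) - (par A 0)^5,
    -(par A 1)^2 * (par A 2) * (par A 3) - (par A 0) * (par A 1)^3 - (par A 0)^2 * (par A 3) * (par A 5) - (par A 0)^4,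
    -(par A 1)^3 * (par A 2) - (par A 0) * (par A 1)^2 * (par A 4) - (par A 0)^2 * (par A 1) * (par A 5) + (par A 0)^3 * (par A 2),
    -(par A 1)^2 * (par A 3) * (par A 4) + (par A 1)^4 + (par A 0)^2 * (par A 2) * (par A 3) + (par A 0)^3 * (par A 1),
    0]

theorem coordJ_L2_mul_adj :
    coordJ A (L2 A * theta A (comb (adjU : Fin 8 → B A))) = (normU : B A) • e0 := by
  change coordI A _ - coordI A _ 7 • _ = _
  rw [coordI_mul, coordI_apply, psi_theta, coord_comb, psi_L2, act_X]
  funext i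
  fin_cases i <;> simp [ops, opY, adjU, normU, dvec, e0] <;> ring

theorem normU_mem_nonZeroDivisors : (normU : B A) ∈ nonZeroDivisors (B A) := by
  have hfs : finSuccEquiv A 5 normU = Polynomial.C ((X 1) * (X 3)) * Polynomial.X ^ 5 + Polynomial.C (-(X 0) * (X 3) * (X 4) + 2 * (X 0) * (X 1)^2) * Polynomial.X ^ 4 + Polynomial.C ((X 1) * (X 2) * (X 3) * (X 4) + (X 1)^3 * (X 2) - (X 0)^2 * (X 3)^2 - 3 * (X 0)^2 * (X 1) * (X 4)) * Polynomial.X ^ 3 + Polynomial.C (-(X 0) * (X 2) * (X 3) * (X 4)^2 - (X 0) * (X 1)^2 * (X 2) * (X 4) + (X 0)^3 * (X 4)^2 - 3 * (X 0)^3 * (X 1) * (X 3)) * Polynomial.X ^ 2 + Polynomial.C (-(X 0)^2 * (X 2) * (X 3)^2 * (X 4) - (X 0)^2 * (X 1)^2 * (X 2) * (X 3) + (X 0)^4 * (X 3) * (X 4) - 2 * (X 0)^4 * (X 1)^2) * Polynomial.X + Polynomial.C (-(X 0)^3 * (X 1) * (X 2) * (X 3) * (X 4) - (X 0)^3 * (X 1)^3 * (X 2) + (X 0)^5 * (X 1) * (X 4)) := by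
    have e2 : (X 1 : B A) = X (Fin.succ 0) := rfl
    have e3 : (X 2 : B A) = X (Fin.succ 1) := rfl
    have e4 : (X 3 : B A) = X (Fin.succ 2) := rfl
    have e5 : (X 4 : B A) = X (Fin.succ 3) := rfl
    have e6 : (X 5 : B A) = X (Fin.succ 4) := rfl
    simp only [normU, par, e2, e3, e4, e5, e6, map_add, map_sub, map_mul, map_pow, map_neg,
      map_ofNat, finSuccEquiv_X_zero, finSuccEquiv_X_succ]
    ring
  have hlc : (X 1 * X 3 : MvPolynomial (Fin 5) A) ∈ nonZeroDivisors _ :=
    mul_mem isRegular_X.mem_nonZeroDivisors isRegular_X.mem_nonZeroDivisors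
  have key : finSuccEquiv A 5 normU ∈ nonZeroDivisors (Polynomial (MvPolynomial (Fin 5) A)) := by
    nontriviality A
    rw [hfs]
    refine Polynomial.mem_nonZeroDivisors_of_leadingCoeff ?_
    rw [Polynomial.leadingCoeff, Polynomial.natDegree_eq_of_le_of_coeff_ne_zero (n := 5)
      (by compute_degree) ?_]
    · simp only [Polynomial.coeff_add, Polynomial.coeff_mul_X_pow', Polynomial.coeff_C,
        Polynomial.coeff_mul_X]
      norm_num
      exact hlc
    · simp only [Polynomial.coeff_add, Polynomial.coeff_mul_X_pow', Polynomial.coeff_C,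
        Polynomial.coeff_mul_X]
      norm_num
  rw [mem_nonZeroDivisors_iff_right] at key ⊢
  intro z hz
  refine (finSuccEquiv A 5).injective ?_
  rw [map_zero]
  exact key _ (by rw [← map_mul, hz, map_zero])

/-- `u₂ = b + f` is a nonzerodivisor modulo `J`, over every base ring -/
theorem mem_idJ_of_L2_mul (q : D A) (h : L2 A * q ∈ idJ A) : q ∈ idJ A := by
  have h1 : L2 A * theta A (comb (adjU : Fin 8 → B A)) - theta A (C normU) ∈ idJ A := by
    rw [← coordJ_eq_zero_iff, map_sub, coordJ_L2_mul_adj]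
    have : coordJ A (theta A (C (normU : B A)) * 1) = normU • coordJ A 1 := coordJ_C_mul _ _
    rw [mul_one] at this
    rw [this]
    have : coordJ A (1 : D A) = e0 := by
      change coordI A 1 - coordI A 1 7 • _ = _
      rw [coordI_apply, map_one, ← C_1, coord_C]
      simp [e0]
    rw [this, sub_self]
  have h2 : theta A (C normU) * q ∈ idJ A := by
    have := Ideal.sub_mem _ (Ideal.mul_mem_left _ (theta A (comb (adjU : Fin 8 → B A))) h)
      (Ideal.mul_mem_right q _ h1)
    convert this using 1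
    ring
  rw [← coordJ_eq_zero_iff, coordJ_C_mul] at h2
  rw [← coordJ_eq_zero_iff]
  funext i
  exact (mem_nonZeroDivisors_iff_right.1 normU_mem_nonZeroDivisors) _
    (by rw [mul_comm]; exact congrFun h2 i)

end Groth.L08.Lie3
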