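import Groth.Agent.L08.Lie3.Coords

/-!
Colon ideals, regular sequences and flatness for the Jacobi ideals.
-/

set_option maxHeartbeats 1000000

namespace Groth.L08.Lie3

open MvPolynomial Lie3Mod

theorem mem_span_X_of_X_mul {R σ : Type*} [CommRing R] {s : Set σ} {k : σ} (hk : k ∉ s)
    {x : MvPolynomial σ R} (h : X k * x ∈ Ideal.span (X '' s)) :
    x ∈ Ideal.span (X '' s) := by
  classical
  rw [mem_ideal_span_X_image] at h ⊢
  intro m hm
  obtain ⟨i, hi, hne⟩ := h (Finsupp.single k 1 + m) (by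
    rw [support_X_mul]; exact Finset.mem_map.2 ⟨m, hm, rfl⟩)
  have hik : i ≠ k := fun h => hk (h ▸ hi)
  exact ⟨i, hi, by simpa [Finsupp.single_apply, hik.symm] using hne⟩

variable {A : Type*} [CommRing A]

theorem idI_le_idJ : idI A ≤ idJ A := by
  refine Ideal.span_mono ?_
  rintro x (h | h | h)
  · exact Or.inl h
  · exact Or.inr (Or.inl h)
  · exact Or.inr (Or.inr (Or.inl h))

theorem detM_mem_idJ : detM A ∈ idJ A := Ideal.subset_span (by simp)

theorem detM_mul_mem {q : D A} (h : q ∈ idL A) : detM A * q ∈ idI A := by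
  have key : ∀ l ∈ ({L1 A, L2 A, L3 A} : Set (D A)), detM A * l ∈ idI A := by
    intro l hl
    rw [← coordI_eq_zero_iff, mul_comm, coordI_mul, coordI_detM]
    simp only [Set.mem_insert_iff, Set.mem_singleton_iff] at hl
    rcases hl with rfl | rfl | rfl
    · rw [psi_L1, act_X]; funext j
      fin_cases j <;> simp [ops, opX, dvec, par] <;> ring
    · rw [psi_L2, act_X]; funext j
      fin_cases j <;> simp [ops, opY, dvec, par] <;> ring
    · rw [psi_L3, act_X]; funext j
      fin_cases j <;> simp [ops, opZ, dvec, par] <;> ring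
  have : idL A ≤ (idI A).colon ({detM A} : Set (D A)) := by
    refine Ideal.span_le.2 fun l hl => ?_
    rw [SetLike.mem_coe, Submodule.mem_colon_singleton, smul_eq_mul, mul_comm]
    exact key l hl
  have h2 := this h
  rwa [Submodule.mem_colon_singleton, smul_eq_mul, mul_comm] at h2

theorem mul_mem_idI {x y : D A} (hx : x ∈ idJ A) (hy : y ∈ idL A) :
    x * y ∈ idI A := by
  have : idJ A ≤ (idI A).colon ({y} : Set (D A)) := by
    refine Ideal.span_le.2 fun l hl => ?_
    rw [SetLike.mem_coe, Submodule.mem_colon_singleton, smul_eq_mul]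
    simp only [Set.mem_insert_iff, Set.mem_singleton_iff] at hl
    rcases hl with rfl | rfl | rfl | rfl
    · exact Ideal.mul_mem_right _ _ (Ideal.subset_span (by simp))
    · exact Ideal.mul_mem_right _ _ (Ideal.subset_span (by simp))
    · exact Ideal.mul_mem_right _ _ (Ideal.subset_span (by simp))
    · exact detM_mul_mem hy
  have h2 := this hx
  rwa [Submodule.mem_colon_singleton, smul_eq_mul] at h2

variable (A)

/-- reduction modulo `L` -/
noncomputable def lam : D A →ₐ[A] B A :=
  ((MvPolynomial.aeval (0 : Fin 3 → B A)).restrictScalars A).comp (psi A)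

variable {A}

theorem span_X_univ : Ideal.span (X '' (Set.univ : Set (Fin 3))) = (idL A).map (psi A) := by
  rw [idL, Ideal.map_span]
  congr 1
  ext r
  simp only [Set.image_insert_eq, Set.image_singleton, psi_L1, psi_L2, psi_L3,
    Set.mem_insert_iff, Set.mem_singleton_iff, Set.mem_image, Set.mem_univ, true_and]
  constructor
  · rintro ⟨i, rfl⟩; fin_cases i <;> simp
  · rintro (rfl | rfl | rfl) <;> exact ⟨_, rfl⟩

theorem mem_map_psi_iff (I : Ideal (D A)) (q : D A) : psi A q ∈ I.map (psi A) ↔ q ∈ I := by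
  refine ⟨fun h => ?_, Ideal.mem_map_of_mem _⟩
  have h2 := Ideal.mem_map_of_mem (theta A) h
  rw [theta_psi] at h2
  refine (Ideal.map_le_iff_le_comap.2 ?_ : (I.map (psi A)).map (theta A) ≤ I) h2
  refine Ideal.map_le_iff_le_comap.2 fun x hx => ?_
  rw [Ideal.mem_comap, Ideal.mem_comap, theta_psi]
  exact hx

theorem lam_eq_zero_iff (q : D A) : lam A q = 0 ↔ q ∈ idL A := by
  rw [← mem_map_psi_iff (idL A) q, ← span_X_univ, mem_ideal_span_X_image]
  have h0 : lam A q = constantCoeff (psi A q) := by simp [lam]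
  rw [h0, constantCoeff_eq]
  constructor
  · intro h m hm
    have hne : m ≠ 0 := fun e => (mem_support_iff.1 hm) (e ▸ h)
    obtain ⟨i, hi⟩ := Finsupp.ne_iff.1 hne
    exact ⟨i, trivial, hi⟩
  · intro h
    by_contra hc
    obtain ⟨i, -, hi⟩ := h 0 (mem_support_iff.2 hc)
    exact hi rfl

theorem lam_detM_mem_nonZeroDivisors : lam A (detM A) ∈ nonZeroDivisors (B A) := by
  have hd : lam A (detM A) = -(X 3 * X 4 * X 5) - X 2 ^ 2 * X 3 + X 1 ^ 2 * X 5
      - 2 * X 0 * X 1 * X 2 - X 0 ^ 2 * X 4 := by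
    simp [lam, psi, detM]; ring
  have hfs : finSuccEquiv A 5 (lam A (detM A)) = Polynomial.C (-X 3) * Polynomial.X ^ 2
      + Polynomial.C (-(2 * X 0 * X 1)) * Polynomial.X
      + Polynomial.C (-(X 2 * X 3 * X 4) - X 1 ^ 2 * X 2 + X 0 ^ 2 * X 4) := by
    rw [hd]
    have e2 : (X 1 : B A) = X (Fin.succ 0) := rfl
    have e3 : (X 2 : B A) = X (Fin.succ 1) := rfl
    have e4 : (X 3 : B A) = X (Fin.succ 2) := rfl
    have e5 : (X 4 : B A) = X (Fin.succ 3) := rfl
    have e6 : (X 5 : B A) = X (Fin.succ 4) := rfl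
    simp only [e2, e3, e4, e5, e6, map_add, map_sub, map_mul, map_pow, map_neg, map_ofNat,
      finSuccEquiv_X_zero, finSuccEquiv_X_succ]
    ring
  have hlc : (-X 3 : MvPolynomial (Fin 5) A) ∈ nonZeroDivisors _ :=
    mem_nonZeroDivisors_iff_right.2 fun z hz => isRegular_X.right.eq_iff.1
      (by rw [mul_neg, neg_eq_zero] at hz; simpa using hz : z * X 3 = 0 * X 3)
  have key : finSuccEquiv A 5 (lam A (detM A))
      ∈ nonZeroDivisors (Polynomial (MvPolynomial (Fin 5) A)) := by
    nontriviality A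
    rw [hfs]
    refine Polynomial.mem_nonZeroDivisors_of_leadingCoeff ?_
    rw [Polynomial.leadingCoeff, Polynomial.natDegree_eq_of_le_of_coeff_ne_zero (n := 2)
      (by compute_degree) ?_]
    · simp only [Polynomial.coeff_add, Polynomial.coeff_mul_X_pow', Polynomial.coeff_C,
        Polynomial.coeff_mul_X]
      norm_num
      exact hlc
    · simp only [Polynomial.coeff_add, Polynomial.coeff_mul_X_pow', Polynomial.coeff_C,
        Polynomial.coeff_mul_X]
      norm_num
  rw [mem_nonZeroDivisors_iff_right] at key ⊢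
  intro z hz
  refine (finSuccEquiv A 5).injective ?_
  rw [map_zero]
  exact key _ (by rw [← map_mul, hz, map_zero])

theorem mem_idL_of_detM_mul {r : D A} (h : r * detM A ∈ idL A) : r ∈ idL A := by
  rw [← lam_eq_zero_iff, map_mul] at h
  rw [← lam_eq_zero_iff]
  exact mem_nonZeroDivisors_iff_right.1 lam_detM_mem_nonZeroDivisors _ h

theorem idI_le_idL : idI A ≤ idL A := by
  refine Ideal.span_le.2 fun q hq => ?_
  rw [SetLike.mem_coe, ← lam_eq_zero_iff]
  simp only [Set.mem_insert_iff, Set.mem_singleton_iff] at hq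
  rcases hq with rfl | rfl | rfl <;> simp [lam, psi, Q1, Q2, Q3] <;> ring

theorem idI_eq_inf : idI A = idJ A ⊓ idL A := by
  refine le_antisymm (le_inf idI_le_idJ idI_le_idL) ?_
  rintro x ⟨hJ, hL⟩
  have hJ' : idJ A ≤ idI A ⊔ Ideal.span {detM A} := by
    refine Ideal.span_le.2 fun l hl => ?_
    simp only [Set.mem_insert_iff, Set.mem_singleton_iff] at hl
    rcases hl with rfl | rfl | rfl | rfl
    · exact Ideal.mem_sup_left (Ideal.subset_span (by simp))
    · exact Ideal.mem_sup_left (Ideal.subset_span (by simp))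
    · exact Ideal.mem_sup_left (Ideal.subset_span (by simp))
    · exact Ideal.mem_sup_right (Ideal.mem_span_singleton_self _)
  obtain ⟨y, hy, z, hz, rfl⟩ := Submodule.mem_sup.1 (hJ' hJ)
  obtain ⟨r, rfl⟩ := Ideal.mem_span_singleton'.1 hz
  have hr : r ∈ idL A := mem_idL_of_detM_mul
    (by simpa using (idL A).sub_mem hL (idI_le_idL hy))
  exact Ideal.add_mem _ hy (by rw [mul_comm]; exact detM_mul_mem hr)

theorem colon_idJ : (idI A).colon (idJ A : Set (D A)) = idL A := by
  ext x
  rw [Submodule.mem_colon]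
  refine ⟨fun h => ?_, fun h s hs => ?_⟩
  · exact mem_idL_of_detM_mul (idI_le_idL (h _ detM_mem_idJ))
  · rw [smul_eq_mul, mul_comm]; exact mul_mem_idI hs h

theorem colon_idL : (idI A).colon (idL A : Set (D A)) = idJ A := by
  ext x
  rw [Submodule.mem_colon]
  refine ⟨fun h => ?_, fun h s hs => ?_⟩
  · refine mem_idJ_of_L2_mul x ?_
    rw [mul_comm]
    exact idI_le_idJ (h (L2 A) (Ideal.subset_span (by simp)))
  · rw [smul_eq_mul]; exact mul_mem_idI h hs

theorem flat_int_quotient_idI : Module.Flat ℤ (D ℤ ⧸ idI ℤ) := by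
  rw [Module.Flat.flat_iff_torsion_eq_bot_of_isBezout, ← Submodule.isTorsionFree_iff_torsion_eq_bot]
  refine Function.Injective.moduleIsTorsionFree
    (Submodule.liftQ ((idI ℤ).restrictScalars ℤ) (coordI ℤ) fun q hq => (coordI_eq_zero_iff q).2 hq)
    ?_ fun _ _ => map_zsmul _ _ _
  exact LinearMap.ker_eq_bot.1 (Submodule.ker_liftQ_eq_bot _ _ _ fun q hq => (coordI_eq_zero_iff q).1 hq)

theorem flat_int_quotient_idJ : Module.Flat ℤ (D ℤ ⧸ idJ ℤ) := by
  rw [Module.Flat.flat_iff_torsion_eq_bot_of_isBezout, ← Submodule.isTorsionFree_iff_torsion_eq_bot]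
  refine Function.Injective.moduleIsTorsionFree
    (Submodule.liftQ ((idJ ℤ).restrictScalars ℤ) (coordJ ℤ) fun q hq => (coordJ_eq_zero_iff q).2 hq)
    ?_ fun _ _ => map_zsmul _ _ _
  exact LinearMap.ker_eq_bot.1 (Submodule.ker_liftQ_eq_bot _ _ _ fun q hq => (coordJ_eq_zero_iff q).1 hq)

end Groth.L08.Lie3
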