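import Groth.Agent.L08.Lie3.Ideals

/-!
The linear forms and the Jacobi quadrics form regular sequences.
-/

set_option maxHeartbeats 1000000

namespace Groth.L08.Lie3

open MvPolynomial Lie3Mod RingTheory.Sequence

variable (A : Type*) [CommRing A]

abbrev S9 : Type _ := MvPolynomial (Fin 3 ⊕ Fin 6) A

noncomputable def p9 : Fin 6 → S9 A := fun i => X (Sum.inr i)

noncomputable def T9 : Fin 3 → S9 A := fun i => X (Sum.inl i)

noncomputable def psi9 : D A →ₐ[A] MvPolynomial (Fin 3) (S9 A) :=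
  aeval ![X 0 + C (p9 A 1), X 1 - C (p9 A 2), X 2 + C (p9 A 4), X 2 - C (p9 A 0), X 0 + C (p9 A 5),
    C (p9 A 2), -X 1 + C (p9 A 3), C (p9 A 0), C (p9 A 1)]

noncomputable def theta9 : MvPolynomial (Fin 3) (S9 A) →ₐ[A] D A :=
  MvPolynomial.aevalTower (MvPolynomial.aeval
      (Sum.elim ![Q1 A, Q2 A, Q3 A]
        (![vh, vi, vf, vg + L2 A, vc - L3 A, ve - L1 A] : Fin 6 → D A)))
    ![L1 A, L2 A, L3 A]

variable {A}

theorem theta9_p (i : Fin 6) : theta9 A (C (p9 A i))
    = (![vh, vi, vf, vg + L2 A, vc - L3 A, ve - L1 A] : Fin 6 → D A) i := by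
  simp [theta9, p9, aevalTower_C]

theorem theta9_T (i : Fin 3) : theta9 A (C (T9 A i)) = ![Q1 A, Q2 A, Q3 A] i := by
  simp [theta9, T9, aevalTower_C]

theorem theta9_X (i : Fin 3) : theta9 A (X i) = ![L1 A, L2 A, L3 A] i := by
  simp [theta9, aevalTower_X]

theorem theta9_psi9 (q : D A) : theta9 A (psi9 A q) = q := by
  have : (theta9 A).comp (psi9 A) = AlgHom.id A (D A) := by
    refine MvPolynomial.algHom_ext fun i => ?_
    fin_cases i <;> simp [psi9, theta9_p, theta9_X, L1, L2, L3] <;> ring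
  exact AlgHom.congr_fun this q

theorem theta9_rel (j : Fin 3) : theta9 A (rel (p9 A) (T9 A) j) = 0 := by
  fin_cases j <;>
    simp [rel, theta9_p, theta9_T, theta9_X, L1, L2, L3, Q1, Q2, Q3] <;> ring

theorem psi9_Q (k : Fin 3) :
    psi9 A (![Q1 A, Q2 A, Q3 A] k) = rel (p9 A) (T9 A) k + C (T9 A k) := by
  fin_cases k <;> simp [psi9, rel, Q1, Q2, Q3] <;> ring

noncomputable def coord9 (q : D A) : Fin 8 → S9 A := coord (p9 A) (T9 A) (psi9 A q)

theorem coord9_Q_mul (k : Fin 3) (x : D A) :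
    coord9 (![Q1 A, Q2 A, Q3 A] k * x) = T9 A k • coord9 x := by
  have h : coord (p9 A) (T9 A) (rel (p9 A) (T9 A) k * psi9 A x) = 0 :=
    coord_span _ _ (Ideal.mul_mem_right _ _ (Ideal.subset_span ⟨k, rfl⟩))
  rw [coord9, map_mul, psi9_Q, add_mul, map_add, h, zero_add, coord_C_mul]; rfl

theorem mem_span_iff (s : Set (Fin 3)) (y : D A) :
    y ∈ Ideal.span (![Q1 A, Q2 A, Q3 A] '' s) ↔
      ∀ i, coord9 y i ∈ Ideal.span ((X : Fin 3 ⊕ Fin 6 → S9 A) '' (Sum.inl '' s)) := by
  constructor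
  · intro h
    induction h using Submodule.span_induction with
    | mem z hz =>
      obtain ⟨k, hk, rfl⟩ := hz
      intro i
      have h2 := coord9_Q_mul k (1 : D A)
      rw [mul_one] at h2
      rw [h2]
      exact Ideal.mul_mem_right _ _ (Ideal.subset_span ⟨_, ⟨k, hk, rfl⟩, rfl⟩)
    | zero => intro i; simp [coord9]
    | add a b _ _ ha hb =>
      intro i
      simp only [coord9, map_add, Pi.add_apply]
      exact Ideal.add_mem _ (ha i) (hb i)
    | smul r z _ hz =>
      intro i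
      have h2 : coord9 (r • z) = act (p9 A) (T9 A) (psi9 A r) (coord9 z) := by
        rw [smul_eq_mul, coord9, map_mul, coord_mul]; rfl
      rw [h2, ← Finset.univ_sum_single (coord9 z), map_sum, Finset.sum_apply]
      refine Ideal.sum_mem _ fun j _ => ?_
      have : Pi.single j (coord9 z j) = coord9 z j • Pi.single j (1 : S9 A) := by
        funext l; by_cases hl : l = j <;> simp [hl, Pi.single_apply]
      rw [this, map_smul, Pi.smul_apply, smul_eq_mul]
      exact Ideal.mul_mem_right _ _ (hz j)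
  · intro h
    have h1 : y = theta9 A (comb (coord9 y)) := by
      have h2 := sub_comb_mem (p9 A) (T9 A) (psi9 A y)
      have h3 : Ideal.span (Set.range (rel (p9 A) (T9 A))) ≤ RingHom.ker (theta9 A) :=
        Ideal.span_le.2 (by rintro _ ⟨j, rfl⟩; exact theta9_rel j)
      have h4 := h3 h2
      rw [RingHom.mem_ker, map_sub, theta9_psi9, sub_eq_zero] at h4
      exact h4
    have h5 : Ideal.span ((X : Fin 3 ⊕ Fin 6 → S9 A) '' (Sum.inl '' s))
        ≤ (Ideal.span (![Q1 A, Q2 A, Q3 A] '' s)).comap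
          ((theta9 A).toRingHom.comp (C : S9 A →+* MvPolynomial (Fin 3) (S9 A))) := by
      rw [Ideal.span_le]
      rintro _ ⟨_, ⟨k, hk, rfl⟩, rfl⟩
      exact Ideal.subset_span ⟨k, hk, (theta9_T k).symm⟩
    rw [h1, comb, Fintype.linearCombination_apply, map_sum]
    refine Ideal.sum_mem _ fun i _ => ?_
    rw [smul_eq_C_mul, map_mul]
    exact Ideal.mul_mem_right _ _ (h5 (h i))

theorem mem_span_of_Q_mul {s : Set (Fin 3)} {k : Fin 3} (hk : k ∉ s) {x : D A}
    (h : ![Q1 A, Q2 A, Q3 A] k * x ∈ Ideal.span (![Q1 A, Q2 A, Q3 A] '' s)) :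
    x ∈ Ideal.span (![Q1 A, Q2 A, Q3 A] '' s) := by
  rw [mem_span_iff] at h ⊢
  intro i
  refine mem_span_X_of_X_mul (k := Sum.inl k) (by simp [hk]) ?_
  have h2 := h i
  rwa [coord9_Q_mul] at h2

theorem isWeaklyRegular_of {R : Type*} [CommRing R] (a b c : R)
    (h1 : ∀ x, a * x = 0 → x = 0)
    (h2 : ∀ x, b * x ∈ Ideal.span {a} → x ∈ Ideal.span {a})
    (h3 : ∀ x, c * x ∈ Ideal.span {a, b} → x ∈ Ideal.span {a, b}) :
    IsWeaklyRegular R [a, b, c] := by
  refine ⟨fun i hi => ?_⟩
  rw [isSMulRegular_quotient_iff_mem_of_smul_mem]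
  intro x hx
  simp only [smul_eq_mul, Ideal.mul_top] at hx ⊢
  match i, hi with
  | 0, _ => simp at hx ⊢; exact h1 x hx
  | 1, _ => simp at hx ⊢; simpa using h2 x hx
  | 2, _ =>
    have e : Ideal.ofList [a, b] = Ideal.span {a, b} := by
      rw [Ideal.ofList]; congr 1; ext z; simp
    simp only [List.take_succ_cons, List.take_zero, List.getElem_cons_succ,
      List.getElem_cons_zero, e] at hx ⊢
    exact h3 x hx

theorem isWeaklyRegular_Q : IsWeaklyRegular (D A) [Q1 A, Q2 A, Q3 A] := by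
  refine isWeaklyRegular_of _ _ _ (fun x hx => ?_) (fun x hx => ?_) (fun x hx => ?_)
  · have := mem_span_of_Q_mul (s := ∅) (k := 0) (x := x) (by simp) (by simpa using hx)
    simpa using this
  · have := mem_span_of_Q_mul (s := {0}) (k := 1) (x := x) (by simp) (by simpa using hx)
    simpa using this
  · have := mem_span_of_Q_mul (s := {0, 1}) (k := 2) (x := x) (by simp)
      (by simpa [Set.image_insert_eq] using hx)
    simpa [Set.image_insert_eq] using this

theorem mem_span_of_L_mul {s : Set (Fin 3)} {k : Fin 3} (hk : k ∉ s) {x : D A}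
    (h : ![L1 A, L2 A, L3 A] k * x ∈ Ideal.span (![L1 A, L2 A, L3 A] '' s)) :
    x ∈ Ideal.span (![L1 A, L2 A, L3 A] '' s) := by
  have e : (Ideal.span (![L1 A, L2 A, L3 A] '' s)).map (psi A)
      = Ideal.span (X '' s) := by
    rw [Ideal.map_span, ← Set.image_comp]
    congr 1
    refine Set.image_congr fun i _ => ?_
    fin_cases i
    · exact psi_L1
    · exact psi_L2
    · exact psi_L3
  have hX : psi A (![L1 A, L2 A, L3 A] k) = X k := by
    fin_cases k
    · exact psi_L1
    · exact psi_L2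
    · exact psi_L3
  have h2 := Ideal.mem_map_of_mem (psi A) h
  rw [map_mul, hX, e] at h2
  rw [← mem_map_psi_iff, e]
  exact mem_span_X_of_X_mul hk h2

theorem isWeaklyRegular_L : IsWeaklyRegular (D A) [L1 A, L2 A, L3 A] := by
  refine isWeaklyRegular_of _ _ _ (fun x hx => ?_) (fun x hx => ?_) (fun x hx => ?_)
  · have := mem_span_of_L_mul (s := ∅) (k := 0) (x := x) (by simp) (by simpa using hx)
    simpa using this
  · have := mem_span_of_L_mul (s := {0}) (k := 1) (x := x) (by simp) (by simpa using hx)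
    simpa using this
  · have := mem_span_of_L_mul (s := {0, 1}) (k := 2) (x := x) (by simp)
      (by simpa [Set.image_insert_eq] using hx)
    simpa [Set.image_insert_eq] using this

theorem isRegular_of_le_ker [Nontrivial A] {l : List (D A)} (h : IsWeaklyRegular (D A) l)
    (hl : ∀ q ∈ l, constantCoeff q = 0) : RingTheory.Sequence.IsRegular (D A) l := by
  refine ⟨h, fun e => ?_⟩
  rw [smul_eq_mul, Ideal.mul_top] at e
  have h1 : (1 : D A) ∈ Ideal.ofList l := e ▸ trivial
  have : (Ideal.ofList l) ≤ RingHom.ker (constantCoeff : D A →+* A) := Ideal.span_le.2 hl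
  simpa using this h1

end Groth.L08.Lie3
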